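import Cfsg.Agent.H837.ThrChk
import Cfsg.Agent.Prune
set_option linter.all false
open scoped Cfsg.Agent.FastGrp

/-!
# `Fi₂₃`: the commuting pairs `(y, x y)` for an element `x` of order 16 (kernel; helper532)
-/

set_option autoImplicit false
set_option maxRecDepth 100000

namespace Cfsg.Agent.H532.PNormTwo.Fi23

open Cfsg.Agent.Lib.PermNet Cfsg.Agent.LThreeFi23
open Cfsg.Agent.LThreeFi23.Tr (n o)

/-- the element of order 16 -/
def w : List Lt := [.d, .f, .g, .j, .c, .e, .d, .h, .b, .f, .c, .e, .j, .d, .i, .h, .c, .e, .a, .c]

/-! trees of letters: at least one point of every orbit of `w` -/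

def t0 : Tr :=
  (n .c (n .a (n .d (n .h (n .b (n .a o (n .e (n .d (n .a (n .f (n .e (n .a (n .d o (n .i (n .z o o) o)) (n .d
  (n .z o (n .g o o)) o)) (n .g o (n .z o o))) o) o) (n .f (n .a (n .z o o) (n .g (n .d (n .e (n .c (n .a o (n
  .f o (n .j o (n .z o o)))) (n .z o o)) o) (n .j (n .a o (n .z o o)) o)) o)) o)) (n .z o o))) o) (n .b (n .e (n
  .a (n .f (n .g (n .j o (n .z o o)) o) (n .z o o)) (n .f (n .g (n .j (n .z o o) o) o) o)) o) (n .e o o))) (n .b
  (n .a (n .z o o) o) o)) (n .d (n .c (n .a (n .e o o) (n .h (n .f (n .a (n .g (n .z o (n .j (n .c (n .b (n .i o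
  o) o) o) (n .c (n .b (n .a (n .e o o) (n .e (n .d o o) o)) o) o))) (n .i (n .z (n .j (n .b o (n .i o o)) (n .c
  (n .b (n .a (n .e (n .d (n .j o (n .c (n .h (n .f o o) o) (n .f (n .h o o) (n .h o o)))) o) o) (n .e (n .j o
  o) o)) (n .e o o)) o)) (n .c (n .b (n .a (n .e (n .d (n .f (n .c (n .e (n .z o (n .g o o)) o) o) o) o) o) (n
  .e o o)) o) o)) (n .c (n .b (n .a o (n .e (n .f (n .g (n .d (n .c (n .f (n .b (n .j o o) (n .z o o)) (n .i (n
  .j o o) (n .e (n .h o o) (n .z o o)))) (n .e o (n .a (n .j (n .z o o) o) o))) (n .j o (n .z (n .j (n .c o o)
  o) o))) (n .z o o)) o) o)) o) o))) (n .g (n .i o (n .c (n .b o o) o)) (n .c o (n .z (n .e o o) o)))) o) o)) (n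
  .h (n .b (n .a o (n .e (n .d (n .a o (n .c (n .z o o) (n .z o o))) (n .f o o)) (n .z o o))) o) (n .e (n .b (n
  .a (n .f (n .g (n .e o o) o) (n .z o o)) (n .z o o)) (n .z o o)) o))) (n .b (n .c (n .b (n .f o (n .z (n .j o
  (n .c o o)) o)) (n .f o (n .z (n .a o o) o))) (n .z o o)) (n .z o o)))) (n .z (n .j o o) o))

def t1 : Tr :=
  (n .g (n .b (n .j (n .i (n .h (n .d (n .c (n .b (n .a (n .e o o) o) (n .e o o)) o) o) o) o) (n .i o (n .z o
  o))) (n .j (n .i (n .h (n .d (n .c (n .b (n .d (n .e (n .d o o) o) (n .a o (n .e (n .f (n .g (n .a o o) o) o)
  o))) (n .e (n .d o (n .f o o)) o)) (n .e (n .f o o) o)) o) o) o) (n .i (n .z o o) (n .z o o)))) (n .i (n .h (n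
  .d (n .f t0 (n .a (n .c (n .g (n .d (n .b (n .c (n .e (n .a o (n .d (n .c o o) (n .f (n .z o o) (n .z o o))))
  (n .z o o)) (n .e (n .d o (n .z o o)) (n .z o o))) (n .e (n .g (n .a (n .c o (n .b (n .h (n .f (n .g (n .f o
  (n .a (n .z (n .j o o) o) (n .d o (n .z (n .j (n .z o o) o) o)))) (n .z o o)) o) (n .z o o)) (n .d o (n .f o
  (n .z o o))))) (n .b (n .f (n .g (n .a o (n .d o (n .j o o))) o) (n .z o o)) (n .d o (n .f (n .c (n .b (n .g
  (n .j o o) (n .z (n .j (n .b o o) o) o)) o) (n .g (n .d (n .z o o) o) o)) o)))) (n .d o (n .f (n .h (n .j o (n
  .g (n .z o (n .b (n .i (n .j (n .g (n .z o o) (n .z o o)) o) o) o)) o)) (n .g (n .a (n .z o o) (n .b (n .a (n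
  .j (n .h (n .c (n .z o o) o) (n .d o o)) o) o) o)) (n .z o o))) (n .z o o)))) o)) (n .b (n .a o (n .e o (n .z
  o o))) (n .e (n .d o o) (n .z o o)))) (n .b (n .a (n .d (n .c (n .e (n .d o (n .z o o)) (n .z o o)) (n .e o (n
  .z o o))) o) (n .e o (n .z o o))) (n .e (n .z o o) (n .z o o)))) (n .z o o)) (n .g (n .b (n .c o (n .z o o))
  (n .c (n .b o (n .e o (n .z o o))) (n .e o (n .z (n .a o o) o)))) (n .c (n .b (n .a (n .d (n .e o o) o) o) (n
  .e o (n .z o o))) (n .e (n .z (n .a o o) o) (n .z o o)))))) (n .z (n .b o o) o)) (n .z o o)) (n .z (n .b o o)
  o)))

def t2 : Tr :=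
  (n .f (n .b (n .j o (n .i o o)) (n .i o o)) (n .d (n .b (n .e (n .a (n .i (n .z o o) (n .z o o)) (n .j (n .b
  (n .z (n .j (n .z o o) (n .f (n .g o o) o)) (n .f (n .g (n .j (n .c (n .z o o) (n .i (n .z o o) o)) o) o) o))
  (n .z (n .f (n .e (n .c o o) o) o) (n .f (n .h o (n .c (n .g (n .j (n .i (n .z o o) o) o) o) o)) o))) (n .c (n
  .g (n .e o (n .f (n .b (n .z o (n .h (n .g (n .z o o) o) (n .a (n .b (n .z o o) o) o))) o) (n .h (n .d (n .c
  (n .a (n .z (n .h o o) (n .h (n .i (n .a (n .d o (n .g o (n .e (n .i (n .f (n .z o (n .e (n .i (n .z o o) o)
  o)) (n .b (n .c (n .h (n .z o (n .g (n .j (n .f (n .g (n .z o o) o) o) o) o)) (n .z o o)) o) o)) (n .d (n .a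
  (n .z (n .e o o) o) (n .z o o)) (n .b (n .f (n .z (n .c (n .e o o) o) (n .c (n .e (n .b (n .f (n .z o o) (n .c
  (n .i (n .z o o) (n .z (n .j (n .d o o) o) (n .h (n .d (n .g (n .j (n .z o o) o) o) o) o))) (n .z o o))) o) o)
  o)) (n .z o o)) (n .z (n .j o o) (n .c o o))))) o))) o) o) (n .b (n .c (n .i o o) o) o))) o) o) (n .b o (n .i
  (n .f (n .g o o) o) (n .z o o)))) o))) (n .h (n .i (n .a (n .z o o) o) o) (n .f (n .g (n .e (n .z o o) o) o)
  o))) (n .i (n .z o o) (n .z o o))))) (n .a (n .i (n .c (n .b (n .z o o) (n .z o o)) o) (n .z o o)) (n .z o
  o))) (n .c (n .g (n .e (n .c (n .i (n .g (n .z o o) o) o) (n .f (n .g (n .z o o) o) (n .b (n .c (n .a (n .e (n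
  .b (n .h o o) (n .z (n .j (n .a o o) o) o)) o) (n .z o o)) (n .g (n .i (n .h (n .z o o) o) o) (n .a (n .f (n
  .z o o) (n .z o o)) (n .z o o)))) (n .z o o)))) o) (n .b (n .c o o) o)) (n .i o (n .z o o)))) (n .i o o)))

def t3 : Tr :=
  (n .c (n .f (n .g (n .z o (n .j (n .c o o) o)) (n .i (n .c (n .z (n .g (n .b (n .h (n .z o o) (n .e (n .f (n
  .h (n .z o o) (n .g (n .d (n .i (n .e (n .z (n .c (n .a o o) o) (n .c o o)) (n .h o o)) (n .e (n .a (n .j (n
  .z (n .a o o) (n .c o o)) (n .z o o)) (n .h (n .j (n .c (n .z o o) o) o) (n .z o o))) o)) (n .j o o)) o)) (n
  .z (n .d o o) o)) o)) (n .e (n .d (n .z o o) (n .f (n .i o (n .g (n .j (n .i o o) (n .z o o)) o)) (n .z o o)))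
  o)) (n .h o (n .e (n .j o (n .b o (n .d o o))) o))) (n .h (n .b (n .f (n .a o (n .z o o)) o) o) (n .b (n .e (n
  .d (n .c o o) o) o) (n .e (n .d o o) o)))) o) o)) (n .i o (n .e (n .f (n .e (n .d (n .h o o) (n .c (n .b (n .g
  (n .a (n .j (n .z o o) (n .z o o)) (n .d (n .c (n .i o (n .a (n .e (n .i o o) (n .h (n .b (n .d (n .e (n .i (n
  .z o o) o) o) o) (n .d (n .a (n .i (n .f o (n .z o o)) (n .z o o)) o) (n .z o o))) (n .z o o))) (n .e (n .h (n
  .f (n .g o (n .j (n .i (n .z o (n .a (n .d (n .b (n .z (n .j (n .c o o) o) (n .c (n .b (n .z o o) o) o)) (n .z
  (n .g (n .j (n .z o o) o) (n .h (n .d (n .e (n .d (n .c (n .b (n .a o o) o) o) o) o) o) o)) o)) o) o)) o) o))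
  o) (n .z o o)) o))) (n .e (n .g (n .c o o) o) o)) o)) o) (n .g (n .j o o) o)) (n .g (n .f (n .c (n .b (n .a o
  (n .j (n .i o (n .d (n .e o o) o)) o)) o) (n .j (n .z (n .c (n .b o o) o) (n .g (n .j o o) o)) o)) (n .j (n .d
  (n .z (n .j o o) o) o) o)) o))) (n .i (n .g (n .j (n .c o o) o) o) (n .g (n .c (n .j o o) (n .j (n .z o o) (n
  .z o o))) o))) o) o))) (n .b (n .f (n .g o o) (n .e (n .d (n .a (n .c o (n .z o o)) (n .c o o)) (n .f (n .g (n
  .d (n .c (n .e (n .j o o) (n .j o o)) (n .j (n .a (n .e (n .f o (n .h o (n .z o o))) (n .h o (n .z o o))) (n
  .e (n .b (n .j o o) o) o)) o)) (n .j o o)) o) o)) o)) (n .e (n .i (n .b (n .a (n .d o (n .f (n .g (n .d (n .z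
  o o) o) o) (n .z o o))) (n .f (n .h (n .b o o) (n .g (n .j o o) (n .z o o))) (n .z (n .j (n .g o o) o) o))) (n
  .d o (n .z o o))) (n .d o o)) (n .z (n .j o o) o))))

def t4 : Tr :=
  (n .d (n .b (n .a (n .z (n .f o o) (n .f o o)) (n .z (n .j o o) o)) (n .f (n .e (n .b o o) (n .g (n .i (n .f
  (n .g (n .j (n .d o o) (n .i (n .b (n .g (n .z (n .j (n .c (n .e o o) (n .a (n .z o o) (n .z o o))) o) o) (n
  .z o o)) o) o)) (n .j (n .d (n .i (n .f (n .c (n .i (n .z o o) (n .e (n .h (n .d (n .i (n .z o (n .f (n .g (n
  .z o o) o) o)) o) o) o) (n .z o o))) (n .e o o)) (n .h (n .i o (n .z o o)) (n .z o o))) o) (n .g (n .z o o) (n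
  .b (n .z o o) o))) (n .z o o))) (n .b (n .c (n .z o (n .f o o)) o) o)) (n .f (n .z (n .j (n .z o o) o) o) o))
  (n .z o o))) o)) (n .e (n .b (n .g (n .z o o) (n .a (n .c o (n .z o o)) (n .c (n .f (n .e o o) (n .d (n .b (n
  .i (n .a o (n .e (n .b (n .z (n .g (n .b o o) o) (n .g o o)) (n .z o o)) (n .z o o))) (n .c (n .a (n .b (n .f
  (n .e (n .b (n .z (n .j (n .c o o) o) o) o) o) (n .c (n .z (n .i (n .b (n .z o (n .j (n .f (n .i o o) o) o))
  o) o) o) (n .z o o))) (n .z o o)) (n .e o (n .z (n .j o o) o))) (n .a (n .b (n .z (n .f o o) (n .f (n .i o (n
  .c o o)) o)) (n .f o o)) (n .z o o)))) (n .e (n .f o o) o)) (n .z (n .j (n .c o o) o) o))) o))) (n .f (n .c (n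
  .h (n .i (n .b (n .z (n .e o (n .g o o)) (n .a (n .c (n .z o (n .g o o)) (n .g o o)) o)) (n .g (n .z (n .i (n
  .j (n .z (n .c (n .j (n .d (n .f (n .i o (n .j (n .e o (n .z o o)) (n .b (n .z o o) (n .z o o)))) o) (n .z o
  o)) o) (n .j o o)) o) o) o) o) o)) (n .g o o)) (n .b (n .c (n .h (n .z o o) (n .e (n .i (n .z o o) (n .g (n .z
  o o) (n .z (n .j o o) o))) (n .d (n .g (n .z (n .f o o) o) (n .e o (n .z o o))) (n .z o o)))) o) (n .g o (n .z
  o o)))) (n .h (n .z (n .d (n .g o o) (n .b o o)) (n .d (n .g o o) (n .b (n .a o (n .c (n .e (n .z (n .a o o)
  (n .a o o)) o) o)) o))) o)) o)) (n .g (n .z (n .f o o) (n .j (n .h (n .f o o) o) (n .h o (n .f o o)))) (n .h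
  (n .b (n .f (n .z (n .i o (n .j o (n .c o o))) (n .c (n .i (n .g (n .d (n .i o o) o) o) (n .g (n .j (n .f (n
  .b (n .g (n .z o o) (n .z o o)) o) o) (n .e (n .f (n .z o o) o) o)) o)) o)) o) (n .f (n .g o o) o)) (n .z o
  o)))))

def t5 : Tr :=
  (n .e (n .b (n .g (n .z (n .a (n .i (n .c (n .b (n .i (n .z o o) o) (n .z o o)) (n .z o o)) o) (n .c o o)) (n
  .j (n .b o (n .i o o)) (n .a o (n .c o o)))) (n .a (n .c o (n .z o o)) (n .c (n .b (n .g (n .j o o) (n .z o
  o)) (n .z o o)) o))) (n .z o o)) (n .b (n .c (n .d (n .i (n .z o o) o) (n .h (n .b (n .d (n .a (n .z o (n .g o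
  o)) (n .f (n .z o o) (n .z o o))) (n .i (n .f (n .z o o) (n .z (n .j (n .h (n .b o o) o) o) o)) (n .z o o)))
  (n .i (n .a (n .z (n .h o o) (n .h o o)) (n .f o (n .z o o))) o)) o)) (n .h (n .g (n .z (n .f (n .g (n .c (n
  .d o o) o) (n .i (n .c o o) o)) o) (n .j o (n .f (n .g (n .c (n .b (n .d (n .i o o) (n .i o o)) (n .d o o)) (n
  .j (n .i (n .g (n .z o o) (n .a (n .h (n .i (n .z o o) (n .z o o)) (n .c o o)) (n .z o o))) o) o)) (n .i (n .c
  o (n .e (n .d (n .g (n .i (n .e (n .z o o) (n .z o o)) (n .e (n .j (n .z o o) (n .c (n .f (n .e (n .z (n .j (n
  .c (n .g (n .f (n .a (n .z o o) (n .z o o)) o) (n .b (n .c (n .z o o) o) o)) (n .z (n .i (n .b (n .z (n .e o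
  (n .f (n .i (n .z (n .j (n .z o o) o) o) o) o)) (n .e o (n .f o o))) o) o) o)) (n .b o o)) (n .b o o)) (n .h o
  (n .z (n .j (n .h (n .z o o) o) o) o))) o) (n .z o o))) (n .z (n .c (n .a (n .j (n .z o o) o) o) o) (n .j (n
  .f (n .z o o) (n .h o (n .z o (n .b (n .c (n .z o o) o) o)))) (n .c (n .b (n .a (n .i o (n .c (n .z o o) (n .b
  (n .z o o) (n .z o o)))) o) o) (n .f (n .g (n .z o (n .b (n .e (n .z o o) o) o)) o) o)))))) (n .c (n .z o (n
  .j (n .g o o) o)) o)) o) o)) o)) (n .i o o)))) (n .z o o)) o)) (n .h (n .f (n .i (n .b (n .e (n .f o o) (n .g
  o o)) (n .e (n .d o (n .g (n .f (n .h (n .z o o) (n .z o o)) o) o)) o)) o) (n .i t4 o)) o)))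

def t6 : Tr :=
  (n .f (n .g (n .j o (n .c (n .e (n .f (n .b (n .j o (n .a o (n .g o o))) (n .g o o)) o) o) o)) (n .i (n .c (n
  .z (n .b (n .j (n .e o o) (n .a o (n .e o o))) (n .e (n .j o (n .d o (n .f o o))) o)) (n .b (n .a o (n .e (n
  .g (n .f o o) o) o)) (n .e (n .d (n .i t5 o) (n .f (n .g (n .j (n .b (n .z o o) o) o) o) o)) o))) o) (n .c (n
  .b (n .a (n .e o (n .z (n .j (n .c (n .f (n .g o o) o) o) o) o)) (n .z o o)) (n .z o o)) (n .z o o)))) (n .i
  (n .c (n .e (n .b (n .a (n .d o o) (n .f o (n .z o o))) (n .f (n .g (n .j (n .d (n .e (n .j (n .g (n .b (n .i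
  (n .a (n .f o (n .d (n .z o (n .c (n .b (n .z o o) o) o)) (n .c (n .d (n .g o o) o) (n .z o o)))) (n .c o (n
  .g (n .j (n .d (n .b (n .z (n .j (n .c (n .g (n .b (n .z (n .c o o) o) (n .z o o)) (n .z (n .b (n .c o o) o)
  (n .b o o))) o) o) o) (n .c (n .d o o) o)) (n .c o (n .z o o))) o) (n .z o o)))) (n .d (n .z (n .g (n .c (n .d
  o o) (n .j o o)) o) (n .g (n .a (n .f o o) (n .c o o)) o)) (n .a o o))) o) (n .d (n .z (n .c (n .g (n .z (n .f
  o (n .b (n .g (n .i (n .j (n .c o o) o) o) o) o)) (n .b (n .a (n .i (n .z (n .c (n .i (n .b o o) o) o) o) (n
  .c (n .b o o) o)) o) o)) (n .b o o)) (n .j (n .z o o) o)) (n .c (n .j o o) o)) (n .b o o))) o) (n .h (n .j (n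
  .g (n .z o o) (n .z o o)) (n .b o o)) o)) (n .z o o)) (n .z o o)) (n .z o o)) (n .z o o))) (n .z o o)) (n .z o
  o)) (n .c (n .d t3 (n .b (n .a (n .z o o) (n .e (n .f (n .g (n .a (n .i o (n .j o (n .z o o))) (n .j o (n .z o
  o))) o) o) (n .z (n .j o o) o))) (n .e (n .d (n .h (n .b (n .a (n .f o o) (n .c (n .z o o) (n .z o o))) (n .i
  (n .d (n .c o (n .f (n .e (n .c o (n .z (n .j o o) o)) o) o)) (n .e (n .b o (n .f (n .g (n .i o (n .j (n .b o
  o) (n .z o o))) o) o)) (n .h (n .z o o) o))) o)) o) (n .f (n .e (n .b (n .g (n .a (n .i (n .g (n .z o o) (n .z
  (n .c o o) (n .j o o))) (n .z o o)) (n .j (n .z o o) o)) (n .z o o)) (n .g o o)) (n .g o o)) o)) (n .z o o))))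
  (n .z (n .j o o) o))))

def t7 : Tr :=
  (n .z (n .g (n .a (n .b (n .i (n .c (n .e (n .f (n .b (n .i (n .g (n .c (n .j (n .f o (n .i (n .z o o) o)) o)
  (n .j (n .a o (n .z o o)) (n .z o o))) o) (n .a (n .g o o) o)) o) o) o) o) (n .z (n .e (n .j (n .f o o) o) o)
  o)) (n .c (n .b (n .a (n .i (n .c o o) (n .b o (n .c (n .e o (n .z o o)) (n .e (n .d (n .f (n .c (n .i (n .b
  (n .f (n .i o (n .z (n .j o o) o)) (n .g (n .a o (n .z o o)) (n .z o o))) (n .e (n .z (n .g o o) o) o)) (n .b
  o o)) (n .e (n .z o o) (n .h (n .z (n .j o o) o) o))) (n .z o o)) (n .f o (n .z (n .j (n .c o (n .f o o)) o)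
  o))) (n .z o o))))) (n .z (n .e o o) o)) (n .e (n .d (n .b (n .f (n .e (n .b (n .a (n .i (n .z o o) o) o) (n
  .c (n .h (n .g (n .z o o) (n .z o o)) (n .z o o)) (n .g (n .z o o) (n .z o o)))) o) (n .z o o)) o) o) (n .z o
  o))) o)) (n .c (n .i o (n .e (n .b (n .d (n .a (n .f (n .i o (n .e o o)) o) (n .z o o)) (n .f (n .g (n .z o o)
  (n .z (n .j (n .i o o) o) o)) o)) (n .d (n .i (n .z o o) (n .z (n .j (n .a (n .b o o) (n .b o o)) o) o)) (n .f
  o (n .z o o)))) (n .z (n .b (n .a (n .e (n .j o o) o) o) o) o))) (n .e (n .f (n .a (n .i o (n .g (n .b (n .j
  (n .c (n .z o o) o) (n .z o o)) (n .z o o)) (n .z o o))) o) (n .z o o)) o))) (n .j (n .f (n .i (n .c o o) (n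
  .c (n .a (n .g (n .e (n .b o o) o) o) (n .b o o)) (n .e (n .f o o) o))) (n .c (n .i o o) (n .e (n .i (n .f o
  o) (n .f o o)) o))) (n .c (n .b (n .a (n .j o o) (n .e (n .d o (n .f (n .g o o) o)) o)) (n .e (n .f (n .g o o)
  o) o)) o))) (n .c (n .b (n .a o (n .e (n .d (n .a o o) (n .f (n .g o o) o)) o)) (n .e (n .d o (n .f (n .g o o)
  o)) o)) o))

def t8 : Tr :=
  (n .d (n .b (n .h (n .a (n .f (n .z (n .i (n .j o o) o) (n .g (n .j (n .e (n .d (n .c (n .b (n .f (n .e o o)
  o) (n .i o o)) (n .i o o)) (n .i (n .f o (n .h o o)) o)) (n .i o o)) (n .i o o)) (n .i (n .e o (n .h (n .d t7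
  o) o)) o))) (n .i (n .h (n .d (n .a (n .c (n .b (n .a (n .e (n .d (n .c (n .h (n .b (n .c (n .d (n .z o o) o)
  o) (n .f (n .e (n .b o (n .a o (n .z o o))) o) o)) o) (n .f (n .e (n .b (n .a (n .d o o) (n .z o o)) (n .c (n
  .g o o) (n .g o (n .z o o)))) (n .z o o)) (n .z o o))) o) (n .z o o)) (n .z o o)) o) o) (n .c (n .b (n .a (n
  .e (n .f o o) (n .z o o)) (n .e (n .d (n .c (n .a o (n .h o o)) (n .h (n .f (n .b o o) o) o)) (n .f o o)) (n
  .z o o))) (n .e (n .d (n .i o (n .a (n .b (n .c (n .h (n .z o o) o) (n .h o (n .z (n .j (n .f o o) o) o))) o)
  o)) (n .f (n .z o o) (n .z o o))) o)) o)) o) o) o)) (n .f (n .z (n .g (n .b (n .c (n .g (n .i (n .d (n .j o o)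
  o) o) (n .i o o)) (n .i (n .z o o) o)) (n .i (n .a o (n .z (n .h (n .d o o) o) o)) o)) (n .j (n .f (n .b (n .g
  (n .h (n .b o o) o) o) (n .i (n .g (n .a (n .i o (n .h (n .d (n .c o o) o) o)) o) o) o)) (n .h o (n .i o o)))
  (n .i o o))) (n .g o (n .i (n .e o o) o))) (n .i o o))) o) (n .c (n .h (n .f (n .i o o) (n .d (n .e (n .i o (n
  .z o o)) (n .i (n .h (n .d (n .z o o) o) o) o)) (n .i o (n .z o o)))) (n .i o o)) (n .h (n .f (n .z (n .i (n
  .j o o) o) (n .e (n .i o o) (n .i o o))) (n .i (n .z o o) o)) (n .i o o)))) (n .f (n .g (n .j (n .i (n .h (n
  .d (n .c (n .b o (n .e (n .f (n .b o (n .g (n .h (n .i o (n .j (n .z o o) o)) o) o)) o) o)) (n .e o o)) o) o)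
  o) (n .i (n .d (n .c (n .z o o) (n .j o o)) (n .h (n .d (n .e (n .c (n .f (n .z o o) (n .z o o)) (n .f (n .h
  (n .d (n .j o o) (n .z (n .g (n .j (n .c o o) o) o) (n .g (n .j (n .z o o) o) o))) (n .g (n .j (n .c (n .b (n
  .g (n .z o o) o) (n .z o o)) o) o) o)) o)) o) o) (n .z o o))) (n .z o o))) (n .i (n .h o o) o)) (n .i (n .h (n
  .d (n .h t6 (n .c (n .f (n .e (n .b (n .d o (n .f (n .g (n .a o o) o) o)) (n .d (n .z o o) (n .f (n .g (n .j o
  (n .z o o)) (n .z o o)) o))) o) (n .b (n .e (n .a (n .z o o) (n .d (n .h (n .f (n .b (n .c (n .g (n .i o o) (n
  .z o o)) (n .g (n .d (n .j o (n .i (n .h o o) o)) (n .e t2 (n .j o (n .i (n .z o o) (n .z o o))))) o)) (n .a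
  (n .g (n .i (n .z o o) (n .z o o)) o) (n .g (n .j o (n .i o o)) (n .i (n .e (n .g o (n .d o o)) (n .z o o)) (n
  .z o o))))) (n .i (n .z o o) o)) o) (n .f o o))) o) (n .e (n .d o (n .f (n .g (n .j (n .b (n .a o o) (n .z o
  o)) o) o) (n .z o o))) o))) (n .e o o))) o) (n .z o o)) o)))

def t9 : Tr :=
  (n .c (n .b (n .e t8 (n .i (n .h (n .d (n .c (n .e (n .d o (n .f (n .g (n .j (n .d (n .e (n .j (n .g o (n .c
  (n .d (n .b (n .a (n .c (n .z (n .g o (n .j (n .g (n .b (n .z o o) o) (n .a o o)) o)) (n .g o (n .b o o))) o)
  (n .j (n .c o (n .z o o)) (n .z o o))) o) (n .b (n .a o o) o)) o)) (n .c (n .f o o) (n .z (n .j (n .z (n .c (n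
  .b o o) o) (n .c o o)) o) o))) (n .h o o)) o) o) o) o)) o) (n .e (n .f (n .b (n .g (n .d (n .h (n .g (n .a (n
  .i (n .e o (n .z o o)) (n .c (n .e (n .g (n .d (n .c (n .a o o) o) o) o) o) o)) (n .b (n .i (n .e (n .g o o)
  (n .g (n .j (n .z (n .j (n .g (n .f (n .z (n .j o o) o) (n .e (n .b (n .g o o) (n .z o o)) (n .z o o))) (n .z
  o o)) o) o) o) (n .z o o))) o) (n .i (n .c (n .g (n .b (n .a (n .z o o) (n .d (n .c (n .z o o) (n .j o o)) o))
  o) o) o) (n .c (n .e (n .i o (n .g o o)) o) o)))) (n .b (n .j (n .e o o) (n .z o o)) (n .c o (n .j (n .e (n .f
  (n .a (n .z o o) o) (n .i o o)) o) o)))) (n .c (n .a (n .b o (n .j o o)) (n .j o o)) (n .j (n .a (n .h (n .i o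
  (n .c (n .b (n .i o (n .z o o)) (n .z o o)) o)) (n .e (n .c (n .b (n .z o o) (n .d o o)) o) o)) (n .e o o))
  o))) (n .j o o)) o) (n .g (n .j (n .z o o) o) o)) o) (n .z o o))) o) o) o)) (n .i (n .e (n .d (n .z o o) (n .f
  (n .h o (n .z o o)) o)) (n .h (n .d o o) o)) o)) (n .e (n .f (n .g (n .c (n .j (n .d (n .h (n .b (n .c (n .h o
  (n .d (n .i o o) o)) (n .i o o)) (n .i (n .h (n .d o o) o) o)) (n .i o o)) (n .i o o)) (n .i (n .h o o) (n .z
  o o))) (n .j (n .i (n .h (n .d (n .c (n .b (n .a o (n .e (n .f o o) o)) o) (n .e (n .f (n .g (n .c o o) o) o)
  o)) o) o) o) (n .i (n .h o o) o))) (n .i o (n .z o o))) (n .i o o)) (n .i o (n .z (n .j (n .c (n .a o (n .g (n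
  .b o o) o)) o) o) o))))

def tT : Tr :=
  (n .a o (n .j (n .g (n .z (n .f (n .e (n .z o (n .j (n .d (n .h (n .i (n .c (n .j (n .z (n .i (n .b (n .a (n
  .h o (n .d t9 (n .i o o))) (n .d (n .c (n .e (n .f (n .g (n .j (n .i (n .d (n .h (n .d (n .i (n .c (n .b o o)
  o) (n .c (n .b o o) o)) o) o) (n .h (n .d (n .a (n .c (n .b (n .e (n .f o o) o) (n .e (n .f o o) o)) (n .e (n
  .f (n .g (n .b (n .j o o) (n .j o o)) o) o) o)) (n .e (n .c (n .d o (n .f o o)) (n .f o o)) o)) o) o)) o) (n
  .i o (n .z o o))) (n .i (n .h o o) o)) (n .i (n .d o o) o)) (n .i (n .h (n .d (n .e (n .d o o) o) o) o) o)) (n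
  .e (n .f t1 (n .i o o)) (n .i (n .h o o) (n .z o o)))) o)) o) (n .c o (n .b o (n .d (n .e o o) o)))) o) o) o)
  o) o) o) o)) o) o) o) o) o))

/-- the visited points `q` with `q` and `x q` commuting (`e = false`) or not commuting (`e = true`), closed under `x` -/
noncomputable def vis (e : Bool) : ℕ :=
  Cfsg.Agent.Lib.PermNetOrbit.sat [ntw w] 15 (walk (pls (ntw w)) [e] tT 0 (Mw []))

/-- everything is visited, and 3511 points are moved to a commuting point -/
noncomputable def chk : Bool := seqB (vis false) fun U => seqB (vis true) fun V =>
  and (Nat.beq (Nat.land full (Nat.lor U V)) full)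
    (and (Nat.beq (Cfsg.Agent.Lib.PermNetOrbit.pc 15 U) 3511) (Nat.beq (Nat.shiftRight U (Nat.pow 2 15)) 0))

/-- a tree with a hole: the frames of the path to the hole -/
private noncomputable def plug (c : List (Bool × Lt × Tr)) (u : Tr) : Tr :=
  List.rec (motive := fun _ => Tr) u (fun f _ ih => Bool.rec (n f.2.1 f.2.2 ih) (n f.2.1 ih f.2.2) f.1) c

/-- `k` at the state of the walk at the hole -/
private noncomputable def hole (c : List (Bool × Lt × Tr)) (k : ℕ → ℕ → ℕ) : ℕ → ℕ → ℕ :=
  List.rec (motive := fun _ => ℕ → ℕ → ℕ) k (fun f _ ih p M => Bool.rec (ih p M)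
    (Cfsg.Agent.Lib.PermNetPt.force (pimg (pls [nt f.2.1]) p) fun p' => seq ((nt f.2.1).app M) fun M' => ih p' M')
    f.1) c

/-- the path from the root of `tT` to `t6` -/
private def ctx : List (Bool × Lt × Tr) :=
  [(false, .a, o), (true, .j, o), (true, .g, o), (true, .z, o), (true, .f, o), (true, .e, o), (false, .z, o),
  (true, .j, o), (true, .d, o), (true, .h, o), (true, .i, o), (true, .c, o), (true, .j, o), (true, .z, o),
  (true, .i, (n .c o (n .b o (n .d (n .e o o) o)))), (true, .b, o), (true, .a, (n .d (n .c (n .e (n .f (n .g
  (n .j (n .i (n .d (n .h (n .d (n .i (n .c (n .b o o) o) (n .c (n .b o o) o)) o) o) (n .h (n .d (n .a (n .c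
  (n .b (n .e (n .f o o) o) (n .e (n .f o o) o)) (n .e (n .f (n .g (n .b (n .j o o) (n .j o o)) o) o) o)) (n
  .e (n .c (n .d o (n .f o o)) (n .f o o)) o)) o) o)) o) (n .i o (n .z o o))) (n .i (n .h o o) o)) (n .i (n .d
  o o) o)) (n .i (n .h (n .d (n .e (n .d o o) o) o) o) o)) (n .e (n .f t1 (n .i o o)) (n .i (n .h o o) (n .z o
  o)))) o)), (false, .h, o), (true, .d, (n .i o o)), (true, .c, (n .e (n .f (n .g (n .c (n .j (n .d (n .h (n
  .b (n .c (n .h o (n .d (n .i o o) o)) (n .i o o)) (n .i (n .h (n .d o o) o) o)) (n .i o o)) (n .i o o)) (n
  .i (n .h o o) (n .z o o))) (n .j (n .i (n .h (n .d (n .c (n .b (n .a o (n .e (n .f o o) o)) o) (n .e (n .f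
  (n .g (n .c o o) o) o) o)) o) o) o) (n .i (n .h o o) o))) (n .i o (n .z o o))) (n .i o o)) (n .i o (n .z (n
  .j (n .c (n .a o (n .g (n .b o o) o)) o) o) o)))), (true, .b, (n .i (n .e (n .d (n .z o o) (n .f (n .h o (n
  .z o o)) o)) (n .h (n .d o o) o)) o)), (true, .e, (n .i (n .h (n .d (n .c (n .e (n .d o (n .f (n .g (n .j (n
  .d (n .e (n .j (n .g o (n .c (n .d (n .b (n .a (n .c (n .z (n .g o (n .j (n .g (n .b (n .z o o) o) (n .a o
  o)) o)) (n .g o (n .b o o))) o) (n .j (n .c o (n .z o o)) (n .z o o))) o) (n .b (n .a o o) o)) o)) (n .c (n
  .f o o) (n .z (n .j (n .z (n .c (n .b o o) o) (n .c o o)) o) o))) (n .h o o)) o) o) o) o)) o) (n .e (n .f (n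
  .b (n .g (n .d (n .h (n .g (n .a (n .i (n .e o (n .z o o)) (n .c (n .e (n .g (n .d (n .c (n .a o o) o) o) o)
  o) o)) (n .b (n .i (n .e (n .g o o) (n .g (n .j (n .z (n .j (n .g (n .f (n .z (n .j o o) o) (n .e (n .b (n
  .g o o) (n .z o o)) (n .z o o))) (n .z o o)) o) o) o) (n .z o o))) o) (n .i (n .c (n .g (n .b (n .a (n .z o
  o) (n .d (n .c (n .z o o) (n .j o o)) o)) o) o) o) (n .c (n .e (n .i o (n .g o o)) o) o)))) (n .b (n .j (n
  .e o o) (n .z o o)) (n .c o (n .j (n .e (n .f (n .a (n .z o o) o) (n .i o o)) o) o)))) (n .c (n .a (n .b o
  (n .j o o)) (n .j o o)) (n .j (n .a (n .h (n .i o (n .c (n .b (n .i o (n .z o o)) (n .z o o)) o)) (n .e (n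
  .c (n .b (n .z o o) (n .d o o)) o) o)) (n .e o o)) o))) (n .j o o)) o) (n .g (n .j (n .z o o) o) o)) o) (n
  .z o o))) o) o) o)), (false, .d, (n .b (n .h (n .a (n .f (n .z (n .i (n .j o o) o) (n .g (n .j (n .e (n .d
  (n .c (n .b (n .f (n .e o o) o) (n .i o o)) (n .i o o)) (n .i (n .f o (n .h o o)) o)) (n .i o o)) (n .i o
  o)) (n .i (n .e o (n .h (n .d t7 o) o)) o))) (n .i (n .h (n .d (n .a (n .c (n .b (n .a (n .e (n .d (n .c (n
  .h (n .b (n .c (n .d (n .z o o) o) o) (n .f (n .e (n .b o (n .a o (n .z o o))) o) o)) o) (n .f (n .e (n .b
  (n .a (n .d o o) (n .z o o)) (n .c (n .g o o) (n .g o (n .z o o)))) (n .z o o)) (n .z o o))) o) (n .z o o))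
  (n .z o o)) o) o) (n .c (n .b (n .a (n .e (n .f o o) (n .z o o)) (n .e (n .d (n .c (n .a o (n .h o o)) (n .h
  (n .f (n .b o o) o) o)) (n .f o o)) (n .z o o))) (n .e (n .d (n .i o (n .a (n .b (n .c (n .h (n .z o o) o)
  (n .h o (n .z (n .j (n .f o o) o) o))) o) o)) (n .f (n .z o o) (n .z o o))) o)) o)) o) o) o)) (n .f (n .z (n
  .g (n .b (n .c (n .g (n .i (n .d (n .j o o) o) o) (n .i o o)) (n .i (n .z o o) o)) (n .i (n .a o (n .z (n .h
  (n .d o o) o) o)) o)) (n .j (n .f (n .b (n .g (n .h (n .b o o) o) o) (n .i (n .g (n .a (n .i o (n .h (n .d
  (n .c o o) o) o)) o) o) o)) (n .h o (n .i o o))) (n .i o o))) (n .g o (n .i (n .e o o) o))) (n .i o o))) o)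
  (n .c (n .h (n .f (n .i o o) (n .d (n .e (n .i o (n .z o o)) (n .i (n .h (n .d (n .z o o) o) o) o)) (n .i o
  (n .z o o)))) (n .i o o)) (n .h (n .f (n .z (n .i (n .j o o) o) (n .e (n .i o o) (n .i o o))) (n .i (n .z o
  o) o)) (n .i o o))))), (false, .f, (n .g (n .j (n .i (n .h (n .d (n .c (n .b o (n .e (n .f (n .b o (n .g (n
  .h (n .i o (n .j (n .z o o) o)) o) o)) o) o)) (n .e o o)) o) o) o) (n .i (n .d (n .c (n .z o o) (n .j o o))
  (n .h (n .d (n .e (n .c (n .f (n .z o o) (n .z o o)) (n .f (n .h (n .d (n .j o o) (n .z (n .g (n .j (n .c o
  o) o) o) (n .g (n .j (n .z o o) o) o))) (n .g (n .j (n .c (n .b (n .g (n .z o o) o) (n .z o o)) o) o) o))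
  o)) o) o) (n .z o o))) (n .z o o))) (n .i (n .h o o) o))), (true, .i, o), (true, .h, (n .z o o)), (true, .d,
  o), (true, .h, (n .c (n .f (n .e (n .b (n .d o (n .f (n .g (n .a o o) o) o)) (n .d (n .z o o) (n .f (n .g (n
  .j o (n .z o o)) (n .z o o)) o))) o) (n .b (n .e (n .a (n .z o o) (n .d (n .h (n .f (n .b (n .c (n .g (n .i
  o o) (n .z o o)) (n .g (n .d (n .j o (n .i (n .h o o) o)) (n .e t2 (n .j o (n .i (n .z o o) (n .z o o)))))
  o)) (n .a (n .g (n .i (n .z o o) (n .z o o)) o) (n .g (n .j o (n .i o o)) (n .i (n .e (n .g o (n .d o o)) (n
  .z o o)) (n .z o o))))) (n .i (n .z o o) o)) o) (n .f o o))) o) (n .e (n .d o (n .f (n .g (n .j (n .b (n .a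
  o o) (n .z o o)) o) o) (n .z o o))) o))) (n .e o o)))]

private theorem walk_plug (pl : List ℕ) (l : List Bool) (u : Tr) (c : List (Bool × Lt × Tr)) :
    ∀ p M : ℕ, walk pl l (plug c u) p M = walk pl l (plug c o) p M ||| hole c (walk pl l u) p M := by
  induction c with
  | nil =>
    intro p M
    exact (Nat.zero_or _).symm
  | cons f c ih =>
    obtain ⟨b, x, s⟩ := f
    intro p M
    cases b
    · show walk pl l (n x s (plug c u)) p M = walk pl l (n x s (plug c o)) p M ||| hole c (walk pl l u) p M
      rw [walk_n, walk_n, ih, ← Nat.or_assoc]
    · have e : hole ((true, x, s) :: c) (walk pl l u) p M =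
          hole c (walk pl l u) (pimg (pls [nt x]) p) ((nt x).app M) := by
        show Cfsg.Agent.Lib.PermNetPt.force (pimg (pls [nt x]) p)
          (fun p' => seq ((nt x).app M) fun M' => hole c (walk pl l u) p' M') = _
        rw [Cfsg.Agent.Lib.PermNetPt.force_eq, seq_eq]
      rw [e]
      show walk pl l (n x (plug c u) s) p M = walk pl l (n x (plug c o) s) p M ||| _
      rw [walk_n, walk_n, ih, ← Nat.or_assoc, Nat.or_assoc _ (hole c _ _ _), Nat.or_comm (hole c _ _ _),
        ← Nat.or_assoc]

private theorem tT_eq : tT = plug ctx t6 := rfl

/-! the points met by the walks outside and inside `t6` (memory of the kernel check) -/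

private noncomputable def wAF : ℕ := asm [
  nat_lit 0x2000000000000000000004000008000040000000000000000001000000000000000000000000000000800000000000000000000000000000000000000000000000000000000000000000000000000000000000000000000800000000000000000000000000000000000000000000000000000000000000000000000000000000000000060000000000000000000000000000000000000000040000000000000000000000000000000000000000000000000000200000000000000000000000000000000000000000000000000000000000000000000000000000000000002000000000000000000000000000000000000000000020000000000000004000000000000200000000000000000000000000000200000000000000020000000000000002000000000200200000000100000000002000000080000000004000000000000800000000000000000000000000000004004008000000084020000004000000800000000004040000000001000001300000000020000000040000000000000080000010000000001000000000000000002010019020a2000000000000000000003000010000000064000052800000001400000a0000100024000001000000200000040040040040020280042044000000020000c00000500110800000204000001010000080040021000002010800000010000005098401,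
  nat_lit 0x4000000000000000000000000000000000000000000000000000000000000000000000800000000000000000020000000000000000000000000000000000000000000000000000000000000000000000000000000000000000000000000000000000000000000000000000000000000000000000000000000000000000000000000000000000000000020000000000000000000000000000000000000000000000000000000000000008000000000000000000000000000000000000000000000000000000000000000000000000000000000000000000000000000000000000000000000000002000000000000000000000000000000000000000000000000000000000010000000000000000000000000000000000000000000000000000000000000000000000000040000000000000000000000000000000000000000000000000000800000000000000000000000000000000000000000000000000000200000000020000000000000020000000000000000000000002000000000000000000000000000000000000000008000000000000000000000000000000000000000000804000000000000000000000000000000000000000000000000000000000000000000000000000000000000000000000000000000000000000000000000000000000000000000000000000000000000000000000000800000000000,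
  nat_lit 0x800000000000000000000000000000000000000000000000000000000000000000000000000000000000000000000000000040000000000000000000000000000000000000000000000000000000000000010000000000000000000000000000000000000000000000000000000000000000000000000000000000000000000000000000000000000000000000000000000000000000000000000000000000000000000000000000008000000000000000000000000000000000000000000080000000000000000000000000000000000000000000000000000000000000000000000000000000000000000000000002000000000000000000000000000000000000000000000000000000000000000000000000000000000000000000000000000000000000000000000000000000000000000000000000000000000000008000000000000000000000000000000000000000000000000000000000000000000000000000000000000000000000000000000000000000000000000000,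
  nat_lit 0x80000000000000000000000000000000000000000000000000000000000000000000000000000000000000000000000020000000000000000000000000000000000000000000000000000000000000000000000000000000000000000000000000000000000000000000000000000000000000000000000000000000000000000000000000000000000000000000000000000000000000000000000000000000000000000000000000000000000000000000000080000000000000000000400000000000000000000000000000000000000000000000000000000000000000000000000000000000000000000000000000000000000000000400000000000000000000000000000000000000000000000000000000000000000000000000000000000000000000000000000000000000000000000000000000000000000000000000000000000000000000000010,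
  nat_lit 0x0,
  nat_lit 0x0,
  nat_lit 0x0,
  nat_lit 0x0]

private noncomputable def wAT : ℕ := asm [
  nat_lit 0x8000182000228006c0008422804c000000002aa480403100040004002004000090f5000010004400400010018000000000000000000000000208008410020000000700281080000000000000500000000c0000000000000000000000000000000001164000000000000000000000000000000080000000000840c200000800442205980020000108000008c400008800208000040000ef824004000110000280000000000000000010021044800400001000000000004400000000000000000000000008404000000c08020000400040007001040000000000000040000450040002700e9858000820060083ad0020100480010003366810110112200000000002040122e20041000000001100000000000000040820410000002bb0828246018421c02601100540804840114809421c835640071cd041804001010831278210c780008102100286200000000000000000000200841f40004005821340280024826e03821d2498428b4268f229709586080440b4467c08100490080104000000000900302305132163a469195c399804a69e7f2bbecd592bc10000451f5d080210008200400801454f824e33d5cef20bc0a2a55efdd2bd8214c76100344460088384ded789fc0ece582bfa8eab6027b501383148bb7f123575231d1839dd2b98ca2abe52d7315ec5cfc5cdfd1d53de8eedf7e81ce79fbcf727ce9ff0f25a16,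
  nat_lit 0x200040000000000000000000000000000000000000000000a000000000000000000008000000000000000008000000000000000000000000000000000000000080240500000000000000001a00010400040000000000000000000000000000000000000000000000000000000000000000000000000000000000000000000000000000000020008000000000000200000000000000010400000004000000000000000000000002000000000000000000000000001000000000000000080000000000000000000000000000000800080000012020008004000000000201500000010500008288001200000012008000000000000000000000000208001000004811d00000000000000200080000000000000000000000000000000000000000000000000002000080000000000000000000000000000008040000000000000000000000000000000000000000000000000000000000000050000000004000000000000000000000000c001000000000000000001400800880400009020040348004400028021102c84000401a000800000020028200000001000800200000100000c010000000000000000000000000000200000000000000002000000000000400000000002000400100000000008500000000800000000000000000000000000000000000000000400001000100000000000000000040000080000002,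
  nat_lit 0x1000000000000000000000001000800000000000000000000000000000000000080000000000000000000000000000000000000000000000000000000000000000000000000000000000000000000000040000000000000000000000000000000000000000000000000000002000000000000000000000000000000001080040000200000000000080000000000000000000008000002000000000000000000000000000000000000000000000040000000000000000000004000000000000000000080000000000000000000000040008000002000000000000000600000000000000000000000000000000000000000000000000000000000000000001400000000000000000800008041000000000000000000000000000000000000000000000000000000000000400000000000000000000000000000000000000000000000080000100000000000000400000000000000200000000000000000000000000000000800008000000000000400000000101000000c00000080000000020000000000000020400000000000000000000000000000000000000000000000000000000000000000000000000000000000000000000000000000000001010000000000000000006000000000000000010100000000000000020000000000000000000000000000000200004000000000000000000000000000000,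
  nat_lit 0x100000000000000000000000000000000000000000000000000000000000000000000000000000000000000000000000000000000000004000000000000000000000000000000000000008000000000000000000002001000000000000000000800000000000000001000200080000000000000000000000000000000000000000000000000000000000000000000000000000000000000000000020000002000000000000000000000000000000000000000000000000000000000000000000000000000000000000000000000000000000000000000000000000000000000000000000000000000000000000000000000000000000000000000000000000000000000000000000000000000000000000000000000000000000000000000000000000000000000000000000000000000000000001000000000000000000000000000000000000040000000000000000000000000000000004000000000000000000000000000000000010000002000000000000000000000000000000000000000000042002000000000000000000000000000000000000000000000000000000000000000000000800000000000000000000000000000004000000000000000000000000000000000000000000000000000000000000000000000,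
  nat_lit 0x2000000000000000000000000000000000000000000000000000000010000000000000040000000000000000000000000000000000000000000000000000000000000000000000000000000000000000000000000000000000000000000000000000000000000000000000000000000000000000000000000000000000000000000000000000000000000000000000000000000000000000000000000000000000000000000000000000000000000000000000000000000000000000000000004000000000000000000000000000000000000000000000000000000000000030000000000000000000000000800000000000000000000000000000000000000000000000000000000000000000000000000000000000000000000000000000000000000000000000000000000000000000000000000000000000000000000000000000000000000000000000400000000000000000000800000000000000000000000000000040001000000000000000000000000000000000008000000000000000000000000000000000000000000000000000000000000000000000000000000000000000000000000000000000000000000000000000000000000000000000000000000040000040000000000000000000000000000000000000000000000200000000000000000008000000,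
  nat_lit 0x100000000000000000000000000000000000000000000000000000000000000000000000000000000000002000000000000000000000000000000000000000000000000000000000000000000000000000000000000000000000000000000000000000000000000000000000000000000000000000000000000000000000000000000000000000000000000000000000000000000000000000000000000000000000000000000000000000000000000000000000000000000000000000000,
  nat_lit 0x0,
  nat_lit 0x0]

private noncomputable def wBF : ℕ := asm [
  nat_lit 0x10000010000020040000004200000000000000000000000000000000000000044800000040000000010000000000000000000000000000000000000000000000000000000000000000020000000000000000000000000000000000000000000000000000000000800002000000000000000050000000400000000000000000000000000000000208040000100000000000000000000000000000000000000000000000000000000000000000000100000000000000000000000000000000000000000000000208000000000000000000040000080000030001000000200000100000000000000000000000000000000000000000000000000000000000000000000000000000000000000000000000000000002000800600000000000000000800000000000000000000000000000000000000000000000000000000000000000000000000000000000000000000040000000000000000000000000000000000000000000000000000000000000000000000000002000000000000000000000000000000000000000000000000200000000000000000000000000000000000000004000000000000000000000000000000000000000000000000000000000000000000000000000000000000000000000,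
  nat_lit 0x4000000000000000000000000000000000000002000000000000000000000000000002000000000000000000000000000000000000000000000000000000000000000800000000000000000000000000000000000000000000000000000000000000000000000010000000000000000000000000000000000000000000000200000000000000000000000000000000000000000000000000000000002000000000000000000000000000000000000000000000000000000000000000002000000000000000000000002000000000000004000000000000000000000000000000000000000100000080000000000000000000000000000000000000000000000000000000000000000000000000080000000000000000000000008000000000000080000000000000000000000000000000000000000000000000000000000000000000002000000000000000000000000000000800000000000000002080000000000000000000020000000000000000000000000000000000000000000000000000000001000400000400000000000000040100000000000000000000000000000000000000000000000,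
  nat_lit 0x4000000000000000000000000000000000000000000000000000000000000000000000000000000000000000000000000000000000000000000000000000000000000000000000000000000000000000000000000000000000000008000000000000000000000000000000000000000000000000000000000100000000000000000000000000000000000000000000000000000000000000000200004000000000000000000000000000000000000000000000000000000000000100000000000000000000000000000000000000000000000000000000000000000000000000000000000000000000000000000020000000000000000000000000000000000000000040000000000000000000000000000000000000000008000000000000000020000000000000004000000000000000000000000000000000000000000000000000000000000000000000000000000000000000000000000000000000000000000000000000000000000000000000000000000000000000000000000000000000000000000001000000000000000000000000000000000000000000001000000000000000000000000020000000000000000000000000000000000000000000000000000000000000000000000000000000000000800000000000000000000000000000000000000000000000000000000000000000080000000000000,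
  nat_lit 0x2000000000000000000000000000000000000000000000000000000000000000000000000000000000000000000000000000000000000000000000000000000000000000000000000000000000000000000000000000100000000000000000000000000000000000000000000000000000000000000000000000000000000000000000000000000000000000000000000000000000000000000000000000000000000000000000000000000000000000000000000000000000000100000000000000000000000000000000000000080000000000000000000000000000000000000000000000000000000000000000000000000000000000000000000000000000000000000000000000000000000000000000000000000000000000000000000000000000000000000000000000000000000000000,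
  nat_lit 0x2000000000000000000000000000000000000000000000000000000000000000000000000000000000000000000000000000000000000000000000000000000000000000000000000000000000000000000000000000000000000000000000000000000000000000000000000000000000000000000000000000000000000000000000000000000000000000000000000000000000000000000000000000000000000000000000000000000000000000000000000000000000000000000000000000000000000000000000000000000000000000000000000000000000000000000000000000000000000000000000000000010000000000000000000000000000000000000000000000000000000000000000000000000000000000000000000000000000000000000000000000000000000000000000000000000000000000000400000000000000000000000000000000000000000000000000000000000000000000000000000000000000000000000000000000000000000000000000000000000000000000000000000000000000000000000000000000000000000000000000000000000000000000000000000000000000000000000000000000000000000000000000000000000000000000000000000000000000000000000000010000000000,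
  nat_lit 0x1000000000000000000000000000000000000000000000000000000000000000000000000000000000000000000000000000000000000000000000000000000000000000000000000000000000000000000000000000000000000000000000000000000000000000000000000000000000000000000000000000000000000000000000000,
  nat_lit 0x10000000000000000000000000000000000000000000000000000000000000000000000000000000000000000000000000000000000000000000000000000000000000000000000000000000000000000000000000000000000000000000000000000000000000000000000000000,
  nat_lit 0x0]

private noncomputable def wBT : ℕ := asm [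
  nat_lit 0x5000000000000000000000000000000000000000000000800000000000000000100000000080440304200000000010004421240804452405a020020000008128000820000400002002111081080041200040009110210042404010008040400200000000000000000000000000000000000000000000000200000000000000000000000000000000000000000000020000000000000040000008200830000800009834542142024e41020000000000202880006740c2100084a08088c680c88608480000000000000000000000000000000000000000000000000000808000000000000000000000200000000000000000000000020800018400400002367416288120000000c23080818960a46630820070400150000000000000000000000000000000000000000000040200000000000000080000000000000000000840010000003042dd8800001a0600cd627124271000000000000000000000000000000000000000000000000000000000000000000000080000068a6b40018402985411800000000000000000000000000000000000000000000000000000200000f455000070080000000000000000000000000000000000000000000000d500039000000000000000000000000000000000003000800000000000000000000000000000000000000000000000000000000000000000000000000000000000000000,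
  nat_lit 0x80000000100008000000002002001000000000000000100000000000000080000000000040000000004040002000000084400004000000000000000000000000000000000000000000020010800000000018002000064020000060013000000000000000400010200010000000006100004500620008802100000010000030000000000000100503a040000000010a8001200000c08008000008004c2030001400000000000000000000004e205040480040000000000000000000000000000000200000000000000000000000000000000000000100000000000000001000000000000000000000002020081000210040400101100000000000001000000000002000000280040200208000500c201854002440c0400040000002001180090124100a20000000000000010000c0000000000000001224020000000043840d0020200800080f000c200800000000002045003871000001008800000000000000000000000000000000020000011000000080000004000000000000000000000080000000000000000000000000000000000550000000800602822100000000000801000034291001281124000480200080000100200e0202500129084000000600000000000400252000040000033c080000008e0001020000008481a88040000018000000000000000000000000000000000000000000000000,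
  nat_lit 0x10008100000000000200004000000000000000000000040000000040000000600000000000000000010000000000000000000000004200000000080000000000000000000000000401000006200001040000000100000000000000000000000000000020000000000000401000000000000000000000000800000000000000000000000000000000000000010000000100015000000000000000000008003000000040000000000000000000000000000000000000000000040400000000000008000000014000000000000000000000000000000000000000000000000000000000010000000000000000002000000020002000000008000010000000000000000020000008002000000000000000000000000000000004040050280001011800000000000000000000000000040000000001000000000000010040000000000100450000000010000000000000000000004000000000000800000140000000000000000000000000000000000000000000800000000000000000000000000005080000002004020000200000008001080000040000000000200000000000000004000000180400200000030100000000000000000000000000000000000000000000000400000000000084010000200800000000000100000000000000000000200001c4080000000000000000000000000004022004005000000042,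
  nat_lit 0x4100000000000000000000000000000000000000000000000000000400000001000000000000000000000000000800000000000000000080000000000000000004000000000000000000000100000000000000000000000000000000000000000000000000000000000100000000000000000000000000000000000000000100000000000000000000000000000000000000000000000000000040000000000000000000000000000000000000000000000000000000000000000000000000000000000000000000000000000000000082000000000000000000400000000000000000000000000000000000000006000000000000000000000400000100000000000000000008000000000000000000000010400000000000000000000000000000080010000000000000000001000000000010000000000000000000030000400000000200000000000002000000000020000001800000000000020000000000000000000000000000000000000000000000000000000000000000000000000040000280800000000000000000000000000000000000008000000000000000000000000000000000000000000000000000040000000000000000010000000040000000000000000000000000000000000100000000000000000080000000000000000000000000200000000000008200000004000800000000000000000,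
  nat_lit 0x100000000000000000000000000000000000000000000000000000000000000000000000000000000000000000000000000000000000001000000800000000000000000004000000000000000000000000000000000000000000000000000000000000000000000000000000000000000000000000000000000000000000000000000000000000000000000000000000001080000000000000000000008000000000000000000000000000000000000000000000000000000000000000000000000000500000000000000000000000400000000000000000000000000000000000000000000000000000000000000000000000000000000000000000000000000000000000000000000000000000000000000000000000000000000000000000000000000000000000000000000000000000000000000000000000000000000000000000000000000000000000000000000000000000000000000000000000000000000000000000000000000000001000000000000000000000000000000000000000000000000000000000000000000000000000000000000020000000000000000000000000000000010000000000000000000000000000040000000000000000004000000000000000000000000000000000000000000000000200000000000000000,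
  nat_lit 0x800000000000000000000000000000000000000000000000000000000000000000000000000000000000000000000000000000000000000000000000000000000000000000000000000000000000000000000000000000000000000000000000000000000000000000000000000000000000000000000000000000000000000000000000000000000000000000000000000000000000000000000000004000000000000000000000000000000000000000000000000000000000000000000000000000000000000000000000000000000000000000000000000000000000000000000000000000000000000000000000000000000000000000000000000000000000000000000000000000000000000000000000000000000000000000000000000000000000000000000000000000000000000000000000000000000000000000000000000000000000000000000000000000000000000000000000000000000000000000000000000000000000000000000000000000000000000000000000000000000000000000000000000000000000000000000000000000000000000000004840000000000000000000000100000000000008000000000000000000000000000000000000000000000000000000000000000000000000000,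
  nat_lit 0x40000000000000000000000000000000000000000000000000000000000000000000000000000000000000000000000000000000000000000000000000000000000000000000000000000000000000000000000000000000000000000000000000000000000000000000000000000000000000000000000000000000000000000000000000000000000000000000000000000000000000000000000000000000000000000000000000000000000000000000000000000000000000000000000000000000000000000000000000000000000000000000000000000000000000000000000000000000000000000000000000000000000000000000000000000000000000,
  nat_lit 0x0]

private theorem walkA : and (Nat.beq (walk (pls (ntw w)) [false] (plug ctx o) 0 (Mw [])) wAF)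
    (Nat.beq (walk (pls (ntw w)) [true] (plug ctx o) 0 (Mw [])) wAT) = true := by decide +kernel

private theorem walkB : and (Nat.beq (hole ctx (walk (pls (ntw w)) [false] t6) 0 (Mw [])) wBF)
    (Nat.beq (hole ctx (walk (pls (ntw w)) [true] t6) 0 (Mw [])) wBT) = true := by decide +kernel

private theorem vis_f : vis false = Cfsg.Agent.Lib.PermNetOrbit.sat [ntw w] 15 (wAF ||| wBF) := by
  have h1 := Nat.eq_of_beq_eq_true (Bool.and_eq_true_iff.mp walkA).1
  have h2 := Nat.eq_of_beq_eq_true (Bool.and_eq_true_iff.mp walkB).1
  delta vis
  rw [tT_eq, walk_plug, h1, h2]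

private theorem vis_t : vis true = Cfsg.Agent.Lib.PermNetOrbit.sat [ntw w] 15 (wAT ||| wBT) := by
  have h1 := Nat.eq_of_beq_eq_true (Bool.and_eq_true_iff.mp walkA).2
  have h2 := Nat.eq_of_beq_eq_true (Bool.and_eq_true_iff.mp walkB).2
  delta vis
  rw [tT_eq, walk_plug, h1, h2]

/-- `chk` with the results of the walks -/
private noncomputable def chkY : Bool :=
  seqB (Cfsg.Agent.Lib.PermNetOrbit.sat [ntw w] 15 (wAF ||| wBF)) fun U =>
  seqB (Cfsg.Agent.Lib.PermNetOrbit.sat [ntw w] 15 (wAT ||| wBT)) fun V =>
  and (Nat.beq (Nat.land full (Nat.lor U V)) full)
    (and (Nat.beq (Cfsg.Agent.Lib.PermNetOrbit.pc 15 U) 3511) (Nat.beq (Nat.shiftRight U (Nat.pow 2 15)) 0))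

private theorem chkY_true : chkY = true := by decide +kernel

private theorem chk_eq : chk = chkY := by
  delta chk chkY
  rw [vis_f, vis_t]

theorem chk_true : chk = true := chk_eq.trans chkY_true

/-- one point is fixed -/
noncomputable def chkF : Bool := seqB (pattern [(w, false)]) fun U =>
  and (Nat.beq (Cfsg.Agent.Lib.PermNetOrbit.pc 15 U) 1) (Nat.beq (Nat.shiftRight U (Nat.pow 2 15)) 0)

theorem chkF_true : chkF = true := by decide +kernel

/-- the planes `lo, …, lo + m - 1` -/
noncomputable def planes (k : ℕ) (u v : List Net) (lo m : ℕ) : Bool :=
  Nat.rec (motive := fun _ => Bool) true (fun b ih => and (checkPlane k u v (Nat.add lo b)) ih) m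

theorem planes_spec {k : ℕ} {u v : List Net} {lo m : ℕ} (h : planes k u v lo m = true) :
    ∀ b < m, checkPlane k u v (lo + b) = true := by
  induction m with
  | zero => intro b hb; omega
  | succ m ih =>
    have h' : and (checkPlane k u v (lo + m)) (planes k u v lo m) = true := h
    rw [Bool.and_eq_true] at h'
    intro b hb
    rcases Nat.lt_succ_iff_lt_or_eq.1 hb with hb | rfl
    · exact ih h'.2 b hb
    · exact h'.1

theorem checkPlanes_of {k : ℕ} {u v : List Net} {m : ℕ} (h : ∀ b < m, checkPlane k u v b = true) :
    checkPlanes k u v m = true := by
  induction m with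
  | zero => rfl
  | succ m ih =>
    have h' : and (checkPlane k u v m) (checkPlanes k u v m) = true := by
      rw [Bool.and_eq_true]
      exact ⟨h m (Nat.lt_succ_self m), ih fun b hb => h b (Nat.lt_succ_of_lt hb)⟩
    exact h'

theorem ord_a : planes 15 (ntw (w ++ w ++ (w ++ w) ++ (w ++ w ++ (w ++ w)) ++
    (w ++ w ++ (w ++ w) ++ (w ++ w ++ (w ++ w))))) (ntw []) 0 5 = true := by decide +kernel

theorem ord_b : planes 15 (ntw (w ++ w ++ (w ++ w) ++ (w ++ w ++ (w ++ w)) ++
    (w ++ w ++ (w ++ w) ++ (w ++ w ++ (w ++ w))))) (ntw []) 5 5 = true := by decide +kernel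

theorem ord_c : planes 15 (ntw (w ++ w ++ (w ++ w) ++ (w ++ w ++ (w ++ w)) ++
    (w ++ w ++ (w ++ w) ++ (w ++ w ++ (w ++ w))))) (ntw []) 10 5 = true := by decide +kernel

/-- the order divides 16 -/
theorem ord_true : checkEq 15 (ntw (w ++ w ++ (w ++ w) ++ (w ++ w ++ (w ++ w)) ++
    (w ++ w ++ (w ++ w) ++ (w ++ w ++ (w ++ w))))) (ntw []) = true := by
  refine checkPlanes_of fun b hb => ?_
  rcases Nat.lt_or_ge b 5 with h | h
  · have := planes_spec ord_a b h
    rwa [Nat.zero_add] at this
  · rcases Nat.lt_or_ge b 10 with h1 | h1
    · have := planes_spec ord_b (b - 5) (by omega)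
      rwa [Nat.add_sub_cancel' h] at this
    · have := planes_spec ord_c (b - 10) (by omega)
      rwa [Nat.add_sub_cancel' h1] at this

/-- the transpositions commuting with `z0` and `i`: 693 others -/
noncomputable def chkL : Bool := seqB (pattern [([.z], false), ([.i], false)]) fun U =>
  and (Nat.beq (Cfsg.Agent.Lib.PermNetOrbit.pc 15 U) 695) (Nat.beq (Nat.shiftRight U (Nat.pow 2 15)) 0)

theorem chkL_true : chkL = true := by decide +kernel

/-- the transpositions commuting with `z0`: 3510 others -/
noncomputable def chkK : Bool := seqB (pattern [([.z], false)]) fun U =>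
  and (Nat.beq (Cfsg.Agent.Lib.PermNetOrbit.pc 15 U) 3511) (Nat.beq (Nat.shiftRight U (Nat.pow 2 15)) 0)

theorem chkK_true : chkK = true := by decide +kernel

end Cfsg.Agent.H532.PNormTwo.Fi23
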