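import Mathlib
import Cfsg.Agent.Fischer.Rank22
import Cfsg.Agent.H532.PNormTwo.Gen
import Cfsg.Agent.Schreier.ChevIso_m3
import Cfsg.Agent.Fischer.Order22
import Cfsg.Agent.FastGrp
import Cfsg.Agent.Prune
set_option linter.all false
prune_inst 0x7f00000000000000000000000000000000000000000000000000000000000000000000000000000000000000000000000000000000000000000000000000000000000000000000000000000000000000003fffffffffffffffffffffffffffbeffbdffffffff
open scoped Cfsg.Agent.FastGrp

-- part: H532/PNormTwo/Count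
section
/-!
# Counting in the kernel (helper532)
-/

set_option autoImplicit false

namespace Cfsg.Agent.H532.PNormTwo

/-- sum, kernel-friendly -/
noncomputable def sumB (n : ℕ) (f : ℕ → ℕ) : ℕ := Nat.rec 0 (fun k ih => Nat.add ih (f k)) n

theorem sumB_eq (n : ℕ) (f : ℕ → ℕ) : sumB n f = ∑ k ∈ Finset.range n, f k := by
  induction n with
  | zero => rfl
  | succ n ih =>
    rw [Finset.sum_range_succ, ← ih]
    rfl

/-- sum over a grid -/
noncomputable def sumG (m n : ℕ) (f : ℕ → ℕ) : ℕ := sumB m fun i => sumB n fun j => f (Nat.add (Nat.mul n i) j)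

theorem sumG_eq (m n : ℕ) (f : ℕ → ℕ) : sumG m n f = ∑ k ∈ Finset.range (m * n), f k := by
  unfold sumG
  rw [sumB_eq]
  induction m with
  | zero => simp
  | succ m ih =>
    rw [Finset.sum_range_succ, ih, sumB_eq, Nat.succ_mul, Finset.sum_range_add]
    congr 1
    refine Finset.sum_congr rfl fun j _ => ?_
    show f (n * m + j) = _
    rw [mul_comm]

/-- forcing the evaluation of a number -/
noncomputable def force {α : Type} (n : ℕ) (k : ℕ → α) : α := Nat.rec (k 0) (fun m _ => k (Nat.succ m)) n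

theorem force_eq {α : Type} (n : ℕ) (k : ℕ → α) : force n k = k n := by
  cases n <;> rfl

/-- `1` or `0` -/
noncomputable def b2n (b : Bool) : ℕ := Bool.rec 0 1 b

theorem b2n_eq (b : Bool) : b2n b = if b = true then 1 else 0 := by
  cases b <;> rfl

theorem card_of_sum {N : ℕ} (p : Fin N → Prop) (f : ℕ → Bool) (h : ∀ y : Fin N, f y = true ↔ p y) {A : ℕ}
    (hA : ∑ k ∈ Finset.range N, b2n (f k) = A) : Nat.card {y : Fin N // p y} = A := by
  classical
  rw [Nat.card_eq_fintype_card, Fintype.card_subtype, Finset.card_filter, ← hA,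
    ← Fin.sum_univ_eq_sum_range (fun k => b2n (f k)) N]
  refine Finset.sum_congr rfl fun y _ => ?_
  rw [b2n_eq]
  by_cases hy : p y
  · rw [if_pos hy, if_pos ((h y).2 hy)]
  · rw [if_neg hy, if_neg fun h1 => hy ((h y).1 h1)]

end Cfsg.Agent.H532.PNormTwo
end

-- part: H532/PNormTwo/Fi22Chk
section
/-!
# `Fi₂₂`: the counts (helper532)
-/

set_option autoImplicit false

namespace Cfsg.Agent.H532.PNormTwo.Fi22

open Cfsg.Agent.Fischer.Cert Cfsg.Agent.Fischer.Data22

/-- do `y` and `z` commute (walk `y` to `0`) -/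
noncomputable def cm (n : ℕ) : ℕ → ℕ → Bool :=
  Nat.rec (fun _ z => Nat.beq (nx .a z) z) (fun _ ih y z => bite (Nat.beq y 0) (Nat.beq (nx .a z) z)
    (force (par y) fun y' => force (nx (ps y) z) fun z' => ih y' z')) n

/-- the element of order 8 -/
noncomputable def xa (y : ℕ) : ℕ := nx .e (nx .f (nx .c (nx .d (nx .h y))))

noncomputable def fA (y : ℕ) : Bool := force y fun y => force (xa y) fun z => bite (Nat.beq y z) false (cm 3510 y z)

noncomputable def fP (y : ℕ) : Bool := force y fun y => Nat.beq (xa y) y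

noncomputable def fK (y : ℕ) : Bool := force y fun y => bite (Nat.beq y 0) false (Nat.beq (nx .a y) y)

noncomputable def fL (y : ℕ) : Bool := force y fun y => bite (Nat.beq y 0) false (bite (Nat.beq (nx .a y) y)
  (bite (Nat.beq y 2817) false (Nat.beq (nx .c y) y)) false)

noncomputable def fO (y : ℕ) : Bool := force y fun y => force (xa (xa (xa (xa y)))) fun z =>
  Nat.beq (xa (xa (xa (xa z)))) y

theorem chkA : Nat.beq (sumG 54 65 fun y => b2n (fA y)) 756 = true := by decide +kernel
theorem chkP : Nat.beq (sumG 54 65 fun y => b2n (fP y)) 2 = true := by decide +kernel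
theorem chkK : Nat.beq (sumG 54 65 fun y => b2n (fK y)) 693 = true := by decide +kernel
theorem chkL : Nat.beq (sumG 54 65 fun y => b2n (fL y)) 180 = true := by decide +kernel
theorem chkO : allGrid 54 65 fO = true := by decide +kernel

end Cfsg.Agent.H532.PNormTwo.Fi22
end

-- part: H532/PNormTwo/Fi22
section
/-!
# `Fi₂₂`: an element of order a power of 2 at which the character of degree 3080 vanishes (helper532)

The Coxeter element of a subgroup `W(D₅)`, of order 8: it fixes 2 of the 3510 transpositions and moves 756 of them to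
transpositions commuting with them.
-/

set_option autoImplicit false

namespace Cfsg.Agent.H532.PNormTwo.Fi22

open Cfsg Cfsg.Agent.Fischer.Cert Cfsg.Agent.Fischer.Data22 Cfsg.Agent.Fischer.Check22
  Cfsg.Agent.Fischer.Abstract Cfsg.Agent.Fischer.Centralizer
  Cfsg.Agent.Fischer.Group22 Cfsg.Agent.Fischer.Rank22 Cfsg.Agent.Fischer.Unit22
  Cfsg.Agent.Schreier.Basic Cfsg.Agent.Schreier.Tools Cfsg.Agent.Schreier.SylowCrit
  Cfsg.Agent.Schreier.Lift Cfsg.Agent.Schreier.Step Cfsg.Agent.Schreier.FiCommon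
open Cfsg.Agent.H690.Spor.RankThree Cfsg.Agent.H690.Spor.RankThree.R3
open Cfsg.Agent.Schreier.FiTwentyTwo (ncard_c ncard_b)

universe u

theorem natBeq_iff {a b : ℕ} : Nat.beq a b = true ↔ a = b := ⟨Nat.eq_of_beq_eq_true, fun h => by rw [h]; exact Nat.beq_refl b⟩

theorem bite_false_left {c r : Bool} : bite c false r = true ↔ (c ≠ true ∧ r = true) := by
  cases c <;> cases r <;> simp [bite]

theorem bite_false_right {c r : Bool} : bite c r false = true ↔ (c = true ∧ r = true) := by
  cases c <;> cases r <;> simp [bite]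

theorem cm_spec : ∀ (n : ℕ) (y z : X), (y : ℕ) ≤ n → (cm n y z = true ↔ R.Com y z) := by
  intro n
  induction n with
  | zero =>
    intro y z hy
    have h0 : y = R.x0 := Fin.ext (by rw [R_x0, x0_val]; omega)
    rw [h0, com_x0_iff_nx]
    exact natBeq_iff
  | succ n ih =>
    intro y z hy
    have e : cm (n + 1) y z = bite (Nat.beq y 0) (Nat.beq (nx .a z) z)
      (force (par y) fun y' => force (nx (ps y) z) fun z' => cm n y' z') := rfl
    rw [e, force_eq, force_eq]
    by_cases h0 : (y : ℕ) = 0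
    · have h1 : y = R.x0 := Fin.ext (by rw [R_x0, x0_val]; exact h0)
      have h2 : Nat.beq y 0 = true := natBeq_iff.2 h0
      rw [h2, h1, com_x0_iff_nx]
      exact natBeq_iff
    · have h2 : Nat.beq y 0 = false := by
        rw [← Bool.not_eq_true]
        exact fun h => h0 (natBeq_iff.1 h)
      rw [h2]
      show cm n (par y) (nx (ps y) z) = true ↔ _
      obtain ⟨h3, h4⟩ := Data.tree_spec checked (z := (y : ℕ)) y.2 h0
      have h3' : par (y : ℕ) < (y : ℕ) := h3
      have h5 : par (y : ℕ) < 3510 := lt_trans h3 y.2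
      have h6 := ih ⟨par y, h5⟩ (g (ps y) • z) (by show par (y : ℕ) ≤ n; omega)
      rw [g_smul] at h6
      refine h6.trans ?_
      have h7 : g (ps y) • (⟨par y, h5⟩ : X) = y := Fin.ext h4
      rw [← R.com_smul (g (ps y)), h7, ← mul_smul, g_sq, one_smul]

/-- the element of order 8 -/
noncomputable def x : G := g .e * g .f * g .c * g .d * g .h

theorem x_smul (y : X) : ((x • y : X) : ℕ) = xa y := by
  unfold x xa
  rw [mul_smul, mul_smul, mul_smul, mul_smul, g_smul, g_smul, g_smul, g_smul, g_smul]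

theorem x_pow : x ^ 8 = 1 := by
  have hfaith := Cfsg.Agent.Fischer.Even22.faithful
  refine FaithfulSMul.eq_of_smul_eq_smul (α := X) fun y => ?_
  rw [one_smul]
  have h1 : (x ^ 8 : G) = x * (x * (x * (x * (x * (x * (x * x)))))) := by
    rw [pow_succ', pow_succ', pow_succ', pow_succ', pow_succ', pow_succ', pow_succ', pow_one]
  rw [h1]
  apply Fin.ext
  simp only [mul_smul, x_smul]
  have h2 := allGrid_spec chkO (y : ℕ) y.2
  unfold fO at h2
  rw [force_eq, force_eq] at h2
  exact natBeq_iff.1 h2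

theorem card_al : Nat.card {y : X // CR R y (x • y)} = 756 := by
  refine card_of_sum _ fA (fun y => ?_) ?_
  · unfold fA
    rw [force_eq, force_eq, bite_false_left, ← x_smul, cm_spec 3510 y (x • y) y.2.le]
    unfold CR
    refine and_congr_left fun _ => ?_
    rw [ne_eq, ne_eq, natBeq_iff, Fin.ext_iff]
  · have h := natBeq_iff.1 chkA
    exact (sumG_eq 54 65 fun y => b2n (fA y)).symm.trans h

theorem card_pi : Nat.card (MulAction.fixedBy X x) = 2 := by
  refine card_of_sum (fun y => y ∈ MulAction.fixedBy X x) fP (fun y => ?_) ?_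
  · unfold fP
    rw [force_eq, natBeq_iff, ← x_smul, MulAction.mem_fixedBy, Fin.ext_iff]
  · have h := natBeq_iff.1 chkP
    exact (sumG_eq 54 65 fun y => b2n (fP y)).symm.trans h

theorem ne_x0_iff (y : X) : R.x0 ≠ y ↔ (y : ℕ) ≠ 0 := by
  rw [ne_eq, ne_eq, Fin.ext_iff, R_x0, x0_val, eq_comm]

theorem card_k : Nat.card {y : X // CR R R.x0 y} = 693 := by
  refine card_of_sum _ fK (fun y => ?_) ?_
  · unfold fK
    rw [force_eq, bite_false_left, natBeq_iff]
    unfold CR
    rw [com_x0_iff_nx, ne_x0_iff, ne_eq, natBeq_iff]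
  · have h := natBeq_iff.1 chkK
    exact (sumG_eq 54 65 fun y => b2n (fK y)).symm.trans h

theorem r3 : R3 G X (CR R) 693 2816 := r3c R card_k (by norm_num) (by norm_num) (by
  rw [Nat.card_eq_fintype_card, Fintype.card_fin])

theorem card_l : com (CR R) R.x0 R.c = 180 := by
  unfold com
  refine card_of_sum _ fL (fun y => ?_) ?_
  · unfold fL
    rw [force_eq, bite_false_left, bite_false_right, bite_false_left, natBeq_iff, natBeq_iff, ne_eq, natBeq_iff, ne_eq,
      natBeq_iff]
    unfold CR
    rw [com_x0_iff_nx, ne_x0_iff, R_c, R.com_comm, com_iff_nx, ne_eq, ne_eq, Fin.ext_iff]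
    show _ ↔ ((¬ (y : ℕ) = 0 ∧ _) ∧ (¬ (y : ℕ) = 2817 ∧ _))
    tauto
  · have h := natBeq_iff.1 chkL
    exact (sumG_eq 54 65 fun y => b2n (fL y)).symm.trans h

/-- Every automorphism maps transpositions to transpositions. -/
theorem aut (β : MulAut G) : ∃ y, β (R.t R.x0) = R.t y := by
  have hfaith := Cfsg.Agent.Fischer.Even22.faithful
  have hfin : Finite G := Nat.finite_of_card_ne_zero (by rw [Cfsg.Agent.Fischer.Order22.card_G]; norm_num)
  have hcC := Cfsg.Agent.Fischer.Order22.card_C
  -- an element of order eleven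
  obtain ⟨x', hx'⟩ := exists_prime_orderOf_dvd_card' (G := C R) 11 (by rw [hcC]; norm_num)
  set x : G := (x' : G) with hxdef
  have hx : orderOf x = 11 := by rw [hxdef, Subgroup.orderOf_coe, hx']
  have hxC : x ∈ C R := x'.2
  have hx1 : x ≠ 1 := by
    intro h
    rw [h, orderOf_one] at hx
    norm_num at hx
  -- its unique fixed point
  have hfix : ∀ y : X, x • y = y → y = R.x0 := by
    intro y hy
    rcases R.rank3 y with h0 | ⟨h, hh, rfl⟩ | ⟨h, hh, rfl⟩
    · exact h0
    · exact (false_of_fix (C R) R.c ncard_c (by norm_num) (m := 26542080) (by rw [hcC]) (p := 11) (by norm_num)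
        hxC hx ((mem_C_iff R h).2 hh) hy).elim
    · exact (false_of_fix (C R) R.b ncard_b (by norm_num) (m := 6531840) (by rw [hcC]) (p := 11) (by norm_num)
        hxC hx ((mem_C_iff R h).2 hh) hy).elim
  have hcent : ∀ k : G, k * x = x * k → k ∈ C R := by
    intro k hk
    rw [mem_C_iff]
    apply hfix
    rw [← mul_smul, ← hk, mul_smul, (mem_C_iff R x).1 hxC]
  -- the double cover
  set d : G := R.t R.x0 with hd
  have hdd : d * d = 1 := R.sq
  have hd1 : d ≠ 1 := R.t_x0_ne_one
  obtain ⟨f, hf⟩ := cq_of_cover hd1 isNonsplitDoubleCover_C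
  have hdx : d * x = x * d := (Subgroup.mem_centralizer_singleton_iff.1 hxC).symm
  -- the involution is unique
  have huniq : ∀ u : G, u * u = 1 → u ≠ 1 → u * x = x * u → u = d := by
    intro u hu hu1 hux
    have huC : u ∈ C R := hcent u hux
    have h1 : f ⟨u, huC⟩ = 1 := by
      refine Cfsg.Agent.Schreier.U6Eleven.main hF (x := f ⟨u, huC⟩) (a := f ⟨x, hxC⟩) ?_ ?_ ?_ ?_
      · rw [← map_mul, ← map_one f]
        exact congrArg f (Subtype.ext hu)
      · rw [← map_pow, ← map_one f]
        refine congrArg f (Subtype.ext ?_)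
        show x ^ 11 = 1
        rw [← hx, pow_orderOf_eq_one]
      · intro h
        rcases eq_of_mem_zpowers hdd ((hf.ker _).1 h) with h2 | h2
        · exact hx1 h2
        · have h3 : x = d := h2
          rw [h3, R.orderOf_t] at hx
          norm_num at hx
      · rw [← map_mul, ← map_mul]
        exact congrArg f (Subtype.ext hux)
    rcases eq_of_mem_zpowers hdd ((hf.ker _).1 h1) with h2 | h2
    · exact absurd h2 hu1
    · exact h2
  -- the Sylow subgroups
  have hfac : 11 ^ (Nat.card G).factorization 11 = 11 := by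
    rw [Cfsg.Agent.Fischer.Order22.card_G]
    have : (64561751654400 : ℕ) = 11 ^ 1 * 5869250150400 := by norm_num
    rw [this, Nat.factorization_mul (by norm_num) (by norm_num), Nat.Prime.factorization_pow (by norm_num)]
    rw [Finsupp.add_apply, Finsupp.single_eq_same, Nat.factorization_eq_zero_of_not_dvd (by norm_num)]
    norm_num
  have : Fact (Nat.Prime 11) := ⟨by norm_num⟩
  let P : Sylow 11 G := Sylow.ofCard (Subgroup.zpowers x) (by rw [Nat.card_zpowers, hx, hfac])
  let Q : Sylow 11 G := Sylow.ofCard (Subgroup.zpowers (β x)) (by rw [Nat.card_zpowers, MulEquiv.orderOf_eq, hx, hfac])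
  obtain ⟨k, hk⟩ := MulAction.exists_smul_eq G P Q
  have h1 : k * x * k⁻¹ ∈ Subgroup.zpowers (β x) := by
    have h2 : k * x * k⁻¹ ∈ ((k • P : Sylow 11 G) : Subgroup G) := by
      rw [Sylow.coe_subgroup_smul, Subgroup.mem_pointwise_smul_iff_inv_smul_mem]
      show (MulAut.conj k)⁻¹ (k * x * k⁻¹) ∈ Subgroup.zpowers x
      rw [MulAut.conj_inv_apply]
      have h3 : k⁻¹ * (k * x * k⁻¹) * k = x := by group
      rw [h3]
      exact Subgroup.mem_zpowers x
    rw [hk] at h2
    exact h2
  have h2 : Commute (β d) (k * x * k⁻¹) := by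
    obtain ⟨m, hm⟩ := Subgroup.mem_zpowers_iff.1 h1
    rw [← hm]
    apply Commute.zpow_right
    show β d * β x = β x * β d
    rw [← map_mul, hdx, map_mul]
  have h3 : k⁻¹ * β d * k = d := by
    apply huniq
    · calc k⁻¹ * β d * k * (k⁻¹ * β d * k) = k⁻¹ * (β d * β d) * k := by group
        _ = 1 := by rw [← map_mul, hdd, map_one]; group
    · intro h
      apply hd1
      have h4 : β d = 1 := by
        calc β d = k * (k⁻¹ * β d * k) * k⁻¹ := by group
          _ = 1 := by rw [h]; group
      rw [← map_one β] at h4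
      exact β.injective h4
    · calc k⁻¹ * β d * k * x = k⁻¹ * (β d * (k * x * k⁻¹)) * k := by group
        _ = k⁻¹ * ((k * x * k⁻¹) * β d) * k := by rw [h2.eq]
        _ = x * (k⁻¹ * β d * k) := by group
  refine ⟨k • R.x0, ?_⟩
  rw [R.map_smul, ← hd]
  calc β d = k * (k⁻¹ * β d * k) * k⁻¹ := by group
    _ = k * d * k⁻¹ := by rw [h3]

open Classical in
theorem vz : Cfsg.Agent.H713.VZ G x := by
  have hfin : Finite G := Nat.finite_of_card_ne_zero (by rw [Cfsg.Agent.Fischer.Order22.card_G]; norm_num)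
  have hab := Cfsg.Agent.H442.RankVal.params (h := r3) (x₀ := R.x0) (y₀ := R.c)
    ⟨fun h => R.c_ne_x0 h.symm, R.com_x0_c⟩ (a := 180) (b := 126) card_l (by norm_num)
  refine vz_of r3 hab (r := -9) (s := 63) (by norm_num) (by norm_num) (by norm_num) (by norm_num) (by norm_num) x
    (fun β => ?_) card_al card_pi (by norm_num)
  obtain ⟨σ, -, h2, h3⟩ := exists_sigma R β (aut β)
  exact ⟨σ, fun y => h2 x y, h3⟩

/-- **`Fi₂₂`, the prime 2.** -/
theorem fi22_2 {K : Type u} [Group K] (h : Spor.IsoFi22 K) : Cfsg.Agent.H620.PNorm.VPow 2 K := by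
  obtain ⟨e⟩ := h
  have h1 : Cfsg.Agent.H620.PNorm.VPow 2 G := by
    refine ⟨x, ?_, vz⟩
    obtain ⟨j, -, hj⟩ := (Nat.dvd_prime_pow Nat.prime_two).1
      (show orderOf x ∣ 2 ^ 3 from orderOf_dvd_of_pow_eq_one (by norm_num; exact x_pow))
    exact ⟨j, hj⟩
  exact h1.mulEquiv (Cfsg.Agent.SporRec.Fi22Iso.ψe.symm.trans e.symm)

end Cfsg.Agent.H532.PNormTwo.Fi22
end

private theorem dce_e73557aa6d5c : _root_.True := by
  try have : _root_.True := by simp only [_root_.Cfsg.Agent.Fischer.Cert.bite.eq_1]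
  exact _root_.True.intro
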